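import Groth.Agent.S11875
import Groth.Agent.GrpHomLib.Artinian
import Groth.Agent.ProjOverLib.Affine

/-! Morphisms from the projective line to a group scheme over a field are constant. -/

set_option autoImplicit false
set_option backward.isDefEq.respectTransparency false
set_option backward.isDefEq.respectTransparency.types false
set_option linter.style.haveILetI false
set_option linter.unusedSectionVars false
set_option maxHeartbeats 1000000
universe u

namespace Groth.Agent.P1ConstLib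

open CategoryTheory CategoryTheory.Limits CategoryTheory.MonoidalCategory CategoryTheory.CartesianMonoidalCategory Opposite TopologicalSpace AlgebraicGeometry
open Groth.Agent.S11875
open scoped CategoryTheory.MonObj
open MvPolynomial (X C)

/-- Morphisms from `P¹` to a separated group scheme locally of finite type over an algebraically closed field are
constant. -/
theorem exists_eq_toSpec_comp_of_isAlgClosed (k : Type u) [Field k] [IsAlgClosed k]
    (G : Over (Spec (CommRingCat.of k))) [GrpObj G]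
    [IsSeparated G.hom] [LocallyOfFiniteType G.hom]
    (φ : CohB1.ProjSpace 1 k ⟶ G.left) (hφ : φ ≫ G.hom = CohB1.ProjSpace.toSpec 1 k) :
    ∃ g : Spec (CommRingCat.of k) ⟶ G.left, φ = CohB1.ProjSpace.toSpec 1 k ≫ g := by
  haveI : IsIntegral (CohB1.ProjSpace 1 k) := REqLib.isIntegral_projSpace 1 k
  haveI : IsProper (CohB1.ProjSpace.toSpec 1 k) := isProper_toSpec k
  let S := Spec (CommRingCat.of k)
  let P : Over S := Over.mk (CohB1.ProjSpace.toSpec 1 k)
  let Y : Over S := Over.mk (Spec.map (CommRingCat.ofHom (Polynomial.C (R := k))))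
  haveI : IsLocallyNoetherian G.left := LocallyOfFiniteType.isLocallyNoetherian G.hom
  haveI : IsLocallyNoetherian Y.left := inferInstanceAs (IsLocallyNoetherian (Spec (CommRingCat.of (Polynomial k))))
  haveI : IsSeparated Y.hom := inferInstanceAs (IsSeparated (Spec.map _))
  haveI : ConnectedSpace Y.left := inferInstanceAs (ConnectedSpace (PrimeSpectrum (Polynomial k)))
  haveI : IsProper P.hom := ‹IsProper (CohB1.ProjSpace.toSpec 1 k)›
  haveI : Flat P.hom := inferInstance
  let e : 𝟙_ (Over S) ⟶ Y := Over.homMk (Spec.map (CommRingCat.ofHom (Polynomial.evalRingHom (0 : k)))) (by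
    show _ ≫ Spec.map _ = 𝟙 _
    rw [← Spec.map_comp, ← CommRingCat.ofHom_comp,
      show (Polynomial.evalRingHom (0 : k)).comp Polynomial.C = RingHom.id k from RingHom.ext fun r => Polynomial.eval_C,
      CommRingCat.ofHom_id]
    exact Spec.map_id _)
  let iso := (isPullback_bcMor k).isoPullback
  let F : P ⊗ Y ⟶ G := Over.homMk (iso.inv ≫ transFam k ≫ φ) (by
    show (iso.inv ≫ transFam k ≫ φ) ≫ G.hom = (P ⊗ Y).hom
    rw [Category.assoc, Category.assoc, hφ, transFam_toSpec, (isPullback_bcMor k).isoPullback_inv_snd_assoc]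
    exact pullback.condition.symm)
  obtain ⟨g, h, hF⟩ := S11439.result S P Y G (bijective_fibre k) e F
  let cC : Y ⟶ 𝟙_ (Over S) := toUnit Y
  let pInf : 𝟙_ (Over S) ⟶ P := Over.homMk (inftyk k) (toSpec_inftyk k)
  let pZero : 𝟙_ (Over S) ⟶ P := Over.homMk (zerok k) (toSpec_zerok k)
  let sInf : Y ⟶ P ⊗ Y := lift (toUnit Y ≫ pInf) (𝟙 Y)
  let sZero : Y ⟶ P ⊗ Y := lift (toUnit Y ≫ pZero) (𝟙 Y)
  have hsI : sInf.left = inftyT k ≫ iso.hom := by
    refine pullback.hom_ext ?_ ?_
    · erw [Category.assoc, (isPullback_bcMor k).isoPullback_hom_fst, inftyT_bc]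
      exact congrArg CommaMorphism.left (lift_fst (toUnit Y ≫ pInf) (𝟙 Y))
    · erw [Category.assoc, (isPullback_bcMor k).isoPullback_hom_snd, toSpec_inftyT]
      exact congrArg CommaMorphism.left (lift_snd (toUnit Y ≫ pInf) (𝟙 Y))
  have hsZ : sZero.left = zeroT k ≫ iso.hom := by
    refine pullback.hom_ext ?_ ?_
    · erw [Category.assoc, (isPullback_bcMor k).isoPullback_hom_fst, zeroT_bc]
      exact congrArg CommaMorphism.left (lift_fst (toUnit Y ≫ pZero) (𝟙 Y))
    · erw [Category.assoc, (isPullback_bcMor k).isoPullback_hom_snd, toSpec_zeroT]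
      exact congrArg CommaMorphism.left (lift_snd (toUnit Y ≫ pZero) (𝟙 Y))
  let Φ : P ⟶ G := Over.homMk φ hφ
  have hI : sInf ≫ F = toUnit Y ≫ pInf ≫ Φ := by
    refine Over.OverMorphism.ext ?_
    show sInf.left ≫ iso.inv ≫ transFam k ≫ φ = _
    rw [hsI, Category.assoc, Iso.hom_inv_id_assoc, reassoc_of% (inftyT_trans k)]
    rfl
  have hh : h = toUnit Y ≫ ((pInf ≫ g)⁻¹ * (pInf ≫ Φ)) := by
    rw [hF] at hI
    rw [MonObj.comp_mul, ← Category.assoc, ← Category.assoc, lift_fst, lift_snd, Category.id_comp,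
      Category.assoc] at hI
    rw [MonObj.comp_mul, GrpObj.comp_inv]
    exact eq_inv_mul_of_mul_eq hI
  let c : 𝟙_ (Over S) ⟶ G := (pZero ≫ g) * ((pInf ≫ g)⁻¹ * (pInf ≫ Φ))
  have hZ : sZero ≫ F = toUnit Y ≫ c := by
    rw [hF, MonObj.comp_mul, ← Category.assoc, ← Category.assoc, lift_fst, lift_snd, Category.id_comp,
      Category.assoc, hh, ← MonObj.comp_mul]
  have hZ' : chart k ≫ φ = Spec.map (CommRingCat.ofHom (Polynomial.C (R := k))) ≫ c.left := by
    have h' : sZero.left ≫ iso.inv ≫ transFam k ≫ φ =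
        Spec.map (CommRingCat.ofHom (Polynomial.C (R := k))) ≫ c.left := congrArg CommaMorphism.left hZ
    rw [hsZ, Category.assoc, Iso.hom_inv_id_assoc, reassoc_of% (zeroT_trans k)] at h'
    exact h'
  refine ⟨c.left, ?_⟩
  haveI := isDominant_chart k
  refine ext_of_isDominant_of_isSeparated G.hom ?_ (chart k) ?_
  · rw [hφ, Category.assoc]
    erw [Over.w c]
    exact (Category.comp_id _).symm
  · rw [hZ', ← Category.assoc]
    congr 1
    show _ = chart k ≫ Proj.toSpecZero _ ≫ _
    rw [chart, pt_toSpec]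
    congr 2
    exact RingHom.ext fun r => (MvPolynomial.eval₂Hom_C _ _ r).symm


theorem exists_eq_toBase_comp (κ : Type u) [Field κ]
    (G : Over (Spec (CommRingCat.of κ))) [GrpObj G] [LocallyOfFiniteType G.hom]
    (φ : CohB1.ProjSpaceOver 1 (Spec (CommRingCat.of κ)) ⟶ G.left)
    (hφ : φ ≫ G.hom = CohB1.ProjSpaceOver.toBase 1 (Spec (CommRingCat.of κ))) :
    ∃ g : Spec (CommRingCat.of κ) ⟶ G.left, g ≫ G.hom = 𝟙 _ ∧
      φ = CohB1.ProjSpaceOver.toBase 1 (Spec (CommRingCat.of κ)) ≫ g := by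
  haveI : IsSeparated G.hom := GrpHomLib.isSeparated_artinian G
  obtain ⟨e, he⟩ := ProjOverLib.exists_iso_polyProj 1 κ
  have hφ₀ : (e.inv ≫ φ) ≫ G.hom = CohB1.ProjSpace.toSpec 1 κ := by
    rw [Category.assoc, hφ, ← he, Iso.inv_hom_id_assoc]
  let Ω := AlgebraicClosure κ
  let f : Spec (CommRingCat.of Ω) ⟶ Spec (CommRingCat.of κ) := Spec.map (CommRingCat.ofHom (algebraMap κ Ω))
  obtain ⟨π, hπ⟩ := ProjOverLib.exists_isPullback_polyProj 1 κ Ω
  let φ' : CohB1.ProjSpace 1 Ω ⟶ (Red.bc f G).left :=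
    pullback.lift (π ≫ e.inv ≫ φ) (CohB1.ProjSpace.toSpec 1 Ω) (by
      rw [Category.assoc, hφ₀]; exact hπ.w)
  haveI : LocallyOfFiniteType (Red.bc f G).hom := inferInstanceAs (LocallyOfFiniteType (pullback.snd _ _))
  haveI : IsSeparated (Red.bc f G).hom := inferInstanceAs (IsSeparated (pullback.snd _ _))
  obtain ⟨g', hg'⟩ := exists_eq_toSpec_comp_of_isAlgClosed Ω (Red.bc f G) φ' (pullback.lift_snd _ _ _)
  have hπφ : π ≫ e.inv ≫ φ = CohB1.ProjSpace.toSpec 1 Ω ≫ g' ≫ pullback.fst G.hom f := by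
    rw [← Category.assoc _ g', ← hg']
    exact (pullback.lift_fst _ _ _).symm
  let g := inftyk κ ≫ e.inv ≫ φ
  have hσ : (f ≫ inftyk κ) ≫ CohB1.ProjSpace.toSpec 1 κ = 𝟙 (Spec (CommRingCat.of Ω)) ≫ f := by
    rw [Category.assoc, toSpec_inftyk, Category.comp_id, Category.id_comp]
  have hg'' : g' ≫ pullback.fst G.hom f = f ≫ g := by
    have h := congrArg (fun t => hπ.lift (f ≫ inftyk κ) (𝟙 _) hσ ≫ t) hπφ
    simp only [IsPullback.lift_fst_assoc, IsPullback.lift_snd_assoc, Category.assoc, Category.id_comp] at h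
    exact h.symm
  haveI : Flat π := MorphismProperty.of_isPullback hπ.flip (inferInstanceAs (Flat f))
  haveI : Surjective f := ⟨fun x => ⟨Classical.arbitrary _, Subsingleton.elim _ _⟩⟩
  haveI : Surjective π := MorphismProperty.of_isPullback hπ.flip (inferInstanceAs (Surjective f))
  haveI : Epi π := Flat.epi_of_flat_of_surjective π
  refine ⟨g, ?_, ?_⟩
  · show (inftyk κ ≫ e.inv ≫ φ) ≫ G.hom = _
    rw [Category.assoc, hφ₀, toSpec_inftyk]
  · rw [← he, Category.assoc, ← cancel_epi e.inv, Iso.inv_hom_id_assoc, ← cancel_epi π, hπφ, hg'',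
      reassoc_of% hπ.w]

end Groth.Agent.P1ConstLib
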